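import Cfsg.Agent.H515.Tall.Chev
import Cfsg.Agent.S1054

/-!
# `F₄(3)`, `E₆(3)`, `E₇(3)`, `E₈(3)` : no 2-central involution has a centralizer of characteristic 2

(S2927 [EX3], helper515)
-/

set_option autoImplicit false
set_option linter.unusedSectionVars false

namespace Cfsg.Agent.H515.Tall.Chev

open Subgroup CoxeterSystem Cfsg Cfsg.Lie Cfsg.Lie.ChevalleyDatum
open Cfsg.Agent.ChevalleyStructure Cfsg.Agent.ChevalleyStructure.CoxeterGeom
  Cfsg.Agent.ChevalleyStructure.RootVec Cfsg.Agent.ChevalleyStructure.RootVecTab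
  Cfsg.Agent.ChevalleyStructure.CoxeterGeomTypes
open Cfsg.Agent.Tits.Roots Cfsg.Agent.Nodes.RGDChev
open Cfsg.Agent.GenExc Cfsg.Agent.GenExc.Chev Cfsg.Agent.H226.Tall

theorem tF4 : IsType chevF4 4 CoxeterMatrix.F₄ := by simp [IsType, typeList]
theorem tE6 : IsType chevE6 6 CoxeterMatrix.E₆ := by simp [IsType, typeList]
theorem tE7 : IsType chevE7 7 CoxeterMatrix.E₇ := by simp [IsType, typeList]
theorem tE8 : IsType chevE8 8 CoxeterMatrix.E₈ := by simp [IsType, typeList]

section

variable {W : Type*} [Group W]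

theorem cases_sr {D : ChevalleyDatum} {l : ℕ} {M : CoxeterMatrix (Fin l)} (hp : IsType D l M)
    (cs : CoxeterSystem M W) {i : Fin l} (hc : chkPar D l (D.simple i) = true) {w : W}
    (hw : Par cs hp.isCartan w) :
    rep cs hp.isCartan w (sr i) = sr i ∨ rep cs hp.isCartan w (sr i) = -sr i := by
  have h := par_cases hp cs (RootVec.simple_lt hp.checked (lt_rank hp i)) hc hw
  rwa [vec_simple hp i] at h

/-! ### `E₆`, `E₇`, `E₈` -/

theorem par_E6 : ∀ i : Fin 6, chkPar chevE6 6 (chevE6.simple i) = true := by decide +kernel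
theorem par_E7 : ∀ i : Fin 7, chkPar chevE7 7 (chevE7.simple i) = true := by decide +kernel
theorem par_E8 : ∀ i : Fin 8, chkPar chevE8 8 (chevE8.simple i) = true := by decide +kernel

theorem comb_E6 (cs : CoxeterSystem CoxeterMatrix.E₆ W) (w : W) (hw : Par cs tE6.isCartan w) :
    w = 1 ∨ rep cs tE6.isCartan w (sr 0) = -sr 0 := by
  have hc : ∀ i, rep cs tE6.isCartan w (sr i) = sr i ∨ rep cs tE6.isCartan w (sr i) = -sr i :=
    fun i => cases_sr tE6 cs (par_E6 i) hw
  have := finite_W tE6 cs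
  rcases hc 0 with h0 | h0
  · left
    have h2 := fix_sr (i := 0) (j := 2) (by decide) (by decide +kernel) h0 (hc 2)
    have h3 := fix_sr (i := 2) (j := 3) (by decide) (by decide +kernel) h2 (hc 3)
    have h1 := fix_sr (i := 3) (j := 1) (by decide) (by decide +kernel) h3 (hc 1)
    have h4 := fix_sr (i := 3) (j := 4) (by decide) (by decide +kernel) h3 (hc 4)
    have h5 := fix_sr (i := 4) (j := 5) (by decide) (by decide +kernel) h4 (hc 5)
    refine eq_one (cs := cs) (h := tE6.isCartan) fun i => ?_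
    fin_cases i
    exacts [h0, h1, h2, h3, h4, h5]
  · right; exact h0

theorem comb_E7 (cs : CoxeterSystem CoxeterMatrix.E₇ W) (w : W) (hw : Par cs tE7.isCartan w) :
    w = 1 ∨ rep cs tE7.isCartan w (sr 0) = -sr 0 := by
  have hc : ∀ i, rep cs tE7.isCartan w (sr i) = sr i ∨ rep cs tE7.isCartan w (sr i) = -sr i :=
    fun i => cases_sr tE7 cs (par_E7 i) hw
  have := finite_W tE7 cs
  rcases hc 0 with h0 | h0
  · left
    have h2 := fix_sr (i := 0) (j := 2) (by decide) (by decide +kernel) h0 (hc 2)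
    have h3 := fix_sr (i := 2) (j := 3) (by decide) (by decide +kernel) h2 (hc 3)
    have h1 := fix_sr (i := 3) (j := 1) (by decide) (by decide +kernel) h3 (hc 1)
    have h4 := fix_sr (i := 3) (j := 4) (by decide) (by decide +kernel) h3 (hc 4)
    have h5 := fix_sr (i := 4) (j := 5) (by decide) (by decide +kernel) h4 (hc 5)
    have h6 := fix_sr (i := 5) (j := 6) (by decide) (by decide +kernel) h5 (hc 6)
    refine eq_one (cs := cs) (h := tE7.isCartan) fun i => ?_
    fin_cases i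
    exacts [h0, h1, h2, h3, h4, h5, h6]
  · right; exact h0

theorem comb_E8 (cs : CoxeterSystem CoxeterMatrix.E₈ W) (w : W) (hw : Par cs tE8.isCartan w) :
    w = 1 ∨ rep cs tE8.isCartan w (sr 0) = -sr 0 := by
  have hc : ∀ i, rep cs tE8.isCartan w (sr i) = sr i ∨ rep cs tE8.isCartan w (sr i) = -sr i :=
    fun i => cases_sr tE8 cs (par_E8 i) hw
  have := finite_W tE8 cs
  rcases hc 0 with h0 | h0
  · left
    have h2 := fix_sr (i := 0) (j := 2) (by decide) (by decide +kernel) h0 (hc 2)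
    have h3 := fix_sr (i := 2) (j := 3) (by decide) (by decide +kernel) h2 (hc 3)
    have h1 := fix_sr (i := 3) (j := 1) (by decide) (by decide +kernel) h3 (hc 1)
    have h4 := fix_sr (i := 3) (j := 4) (by decide) (by decide +kernel) h3 (hc 4)
    have h5 := fix_sr (i := 4) (j := 5) (by decide) (by decide +kernel) h4 (hc 5)
    have h6 := fix_sr (i := 5) (j := 6) (by decide) (by decide +kernel) h5 (hc 6)
    have h7 := fix_sr (i := 6) (j := 7) (by decide) (by decide +kernel) h6 (hc 7)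
    refine eq_one (cs := cs) (h := tE8.isCartan) fun i => ?_
    fin_cases i
    exacts [h0, h1, h2, h3, h4, h5, h6, h7]
  · right; exact h0

/-! ### `F₄` -/

theorem par_F4 : chkPar chevF4 4 (chevF4.simple ((0 : Fin 4) : ℕ)) = true ∧
    chkPar chevF4 4 (chevF4.simple ((1 : Fin 4) : ℕ)) = true ∧
    chkPar chevF4 4 28 = true ∧ chkPar chevF4 4 29 = true := by decide +kernel

theorem vec_28 : vec chevF4 4 28 = sr 1 + sr 2 := by decide +kernel
theorem vec_29 : vec chevF4 4 29 = sr 1 + sr 2 + sr 3 := by decide +kernel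
theorem vec_35 : vec chevF4 4 35 = sr 0 + vec chevF4 4 28 := by decide +kernel
theorem vec_36 : vec chevF4 4 36 = sr 0 + vec chevF4 4 29 := by decide +kernel
theorem nr_F4 : chevF4.nroots = 48 := by decide +kernel
theorem ent_F4 : vec chevF4 4 28 0 = 0 ∧ vec chevF4 4 28 1 = 1 ∧ vec chevF4 4 29 0 = 0 ∧ vec chevF4 4 29 1 = 1 := by
  decide +kernel

theorem hr {r : ℕ} (h : r < 48) : r < chevF4.nroots := lt_of_lt_of_eq h nr_F4.symm

theorem comb_F4 (cs : CoxeterSystem CoxeterMatrix.F₄ W) (w : W) (hw : Par cs tF4.isCartan w) :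
    w = 1 ∨ rep cs tF4.isCartan w (sr 0) = -sr 0 := by
  have := finite_W tF4 cs
  rcases cases_sr tF4 cs (i := 0) par_F4.1 hw with h0 | h0
  · left
    have h1 := fix_sr (i := 0) (j := 1) (by decide) (by decide +kernel) h0 (cases_sr tF4 cs (i := 1) par_F4.2.1 hw)
    have h28 : rep cs tF4.isCartan w (vec chevF4 4 28) = vec chevF4 4 28 :=
      fix_adj h0 (par_cases tF4 cs (hr (by norm_num)) par_F4.2.2.1 hw)
        (by rw [← vec_35]; exact isRoot_vec tF4 cs (hr (by norm_num))) (i := 0) (j := 1)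
        (by rw [sr_self]; norm_num) ent_F4.1 (by rw [ent_F4.2.1]; norm_num) (sr_ne (by decide))
    have h29 : rep cs tF4.isCartan w (vec chevF4 4 29) = vec chevF4 4 29 :=
      fix_adj h0 (par_cases tF4 cs (hr (by norm_num)) par_F4.2.2.2 hw)
        (by rw [← vec_36]; exact isRoot_vec tF4 cs (hr (by norm_num))) (i := 0) (j := 1)
        (by rw [sr_self]; norm_num) ent_F4.2.2.1 (by rw [ent_F4.2.2.2]; norm_num) (sr_ne (by decide))
    rw [vec_28, map_add, h1] at h28
    have h2 := add_left_cancel h28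
    rw [vec_29, map_add, map_add, h1, h2] at h29
    have h3 := add_left_cancel h29
    refine eq_one (cs := cs) (h := tF4.isCartan) fun i => ?_
    fin_cases i
    exacts [h0, h1, h2, h3]
  · right; exact h0

end

/-! ### the certificates -/

def cF4 : List (List (ℕ × ℕ × ℕ)) := [[(24, 26, 22), (25, 26, 23), (26, 24, 25), (23, 25, 21), (22, 24, 21), (21, 23, 22)],
  [(27, 34, 14), (33, 34, 20), (34, 27, 33), (20, 33, 13), (14, 27, 13), (13, 20, 14)],
  [(28, 39, 11), (36, 39, 19), (39, 28, 36), (19, 36, 8), (11, 28, 8), (8, 19, 11)],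
  [(29, 40, 10), (37, 40, 18), (40, 29, 37), (18, 37, 7), (10, 29, 7), (7, 18, 10)],
  [(35, 44, 9), (38, 44, 12), (44, 35, 38), (12, 38, 3), (9, 35, 3), (3, 12, 9)]]

def cE6 : List (List (ℕ × ℕ × ℕ)) := [[(37, 40, 32), (39, 40, 34), (40, 37, 39), (34, 39, 31), (32, 37, 31), (31, 34, 32)],
  [(42, 57, 15), (56, 57, 29), (57, 42, 56), (29, 56, 14), (15, 42, 14), (14, 29, 15)],
  [(37, 44, 28), (43, 44, 34), (44, 37, 43), (34, 43, 27), (28, 37, 27), (27, 34, 28)],
  [(37, 59, 13), (58, 59, 34), (59, 37, 58), (34, 58, 12), (13, 37, 12), (12, 34, 13)],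
  [(39, 43, 29), (42, 43, 32), (43, 39, 42), (32, 42, 28), (29, 39, 28), (28, 32, 29)],
  [(39, 58, 14), (57, 58, 32), (58, 39, 57), (32, 57, 13), (14, 39, 13), (13, 32, 14)],
  [(40, 44, 29), (42, 44, 31), (44, 40, 42), (31, 42, 27), (29, 40, 27), (27, 31, 29)],
  [(40, 59, 14), (57, 59, 31), (59, 40, 57), (31, 57, 12), (14, 40, 12), (12, 31, 14)],
  [(43, 58, 15), (56, 58, 28), (58, 43, 56), (28, 56, 13), (15, 43, 13), (13, 28, 15)],
  [(44, 59, 15), (56, 59, 27), (59, 44, 56), (27, 56, 12), (15, 44, 12), (12, 27, 15)]]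

def cE7 : List (List (ℕ × ℕ × ℕ)) := [[(66, 70, 56), (69, 70, 59), (70, 66, 69), (59, 69, 55), (56, 66, 55), (55, 59, 56)],
  [(73, 94, 32), (93, 94, 52), (94, 73, 93), (52, 93, 31), (32, 73, 31), (31, 52, 32)],
  [(66, 75, 51), (74, 75, 59), (75, 66, 74), (59, 74, 50), (51, 66, 50), (50, 59, 51)],
  [(66, 96, 30), (95, 96, 59), (96, 66, 95), (59, 95, 29), (30, 66, 29), (29, 59, 30)],
  [(69, 74, 52), (73, 74, 56), (74, 69, 73), (56, 73, 51), (52, 69, 51), (51, 56, 52)],
  [(69, 95, 31), (94, 95, 56), (95, 69, 94), (56, 94, 30), (31, 69, 30), (30, 56, 31)],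
  [(70, 75, 52), (73, 75, 55), (75, 70, 73), (55, 73, 50), (52, 70, 50), (50, 55, 52)],
  [(70, 96, 31), (94, 96, 55), (96, 70, 94), (55, 94, 29), (31, 70, 29), (29, 55, 31)],
  [(74, 95, 32), (93, 95, 51), (95, 74, 93), (51, 93, 30), (32, 74, 30), (30, 51, 32)],
  [(75, 96, 32), (93, 96, 50), (96, 75, 93), (50, 93, 29), (32, 75, 29), (29, 50, 32)]]

def cE8 : List (List (ℕ × ℕ × ℕ)) := [[(126, 131, 109), (130, 131, 113), (131, 126, 130), (113, 130, 108), (109, 126, 108), (108, 113, 109)],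
  [(135, 163, 77), (162, 163, 104), (163, 135, 162), (104, 162, 76), (77, 135, 76), (76, 104, 77)],
  [(126, 137, 103), (136, 137, 113), (137, 126, 136), (113, 136, 102), (103, 126, 102), (102, 113, 103)],
  [(126, 165, 75), (164, 165, 113), (165, 126, 164), (113, 164, 74), (75, 126, 74), (74, 113, 75)],
  [(130, 136, 104), (135, 136, 109), (136, 130, 135), (109, 135, 103), (104, 130, 103), (103, 109, 104)],
  [(130, 164, 76), (163, 164, 109), (164, 130, 163), (109, 163, 75), (76, 130, 75), (75, 109, 76)],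
  [(131, 137, 104), (135, 137, 108), (137, 131, 135), (108, 135, 102), (104, 131, 102), (102, 108, 104)],
  [(131, 165, 76), (163, 165, 108), (165, 131, 163), (108, 163, 74), (76, 131, 74), (74, 108, 76)],
  [(136, 164, 77), (162, 164, 103), (164, 136, 162), (103, 162, 75), (77, 136, 75), (75, 103, 77)],
  [(137, 165, 77), (162, 165, 102), (165, 137, 162), (102, 162, 74), (77, 137, 74), (74, 102, 77)]]

theorem okF4 : chkNo chevF4 4 = true ∧ oddB chevF4 [(0 : Fin 4)] = true ∧ chkC chevF4 [(0 : Fin 4), 1, 2, 3] cF4 = true := by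
  decide +kernel

theorem okE6 : chkNo chevE6 6 = true ∧ oddB chevE6 [(0 : Fin 6)] = true ∧ chkC chevE6 [(0 : Fin 6), 2, 3, 4] cE6 = true := by
  decide +kernel

theorem okE7 : chkNo chevE7 7 = true ∧ oddB chevE7 [(0 : Fin 7)] = true ∧ chkC chevE7 [(0 : Fin 7), 2, 3, 4] cE7 = true := by
  decide +kernel

theorem okE8 : chkNo chevE8 8 = true ∧ oddB chevE8 [(0 : Fin 8)] = true ∧ chkC chevE8 [(0 : Fin 8), 2, 3, 4] cE8 = true := by
  decide +kernel

/-! ### the theorems -/

section

variable {K : Type} [Field K] [Fintype K] (hK : Fintype.card K = 3)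

include hK

theorem notCP_f43 : NotCP ↥(chevF4.group K) := by
  have : IsSimpleGroup ↥(chevF4.group K) := (S1054.result chevF4 (by simp)).1
  exact notCP tF4 hK okF4.1 okF4.2.1 (comb_F4 _) (by decide) okF4.2.2

theorem notCP_e63 : NotCP ↥(chevE6.group K) := by
  have : IsSimpleGroup ↥(chevE6.group K) := (S1054.result chevE6 (by simp)).1
  exact notCP tE6 hK okE6.1 okE6.2.1 (comb_E6 _) (by decide) okE6.2.2

theorem notCP_e73 : NotCP ↥(chevE7.group K) := by
  have : IsSimpleGroup ↥(chevE7.group K) := (S1054.result chevE7 (by simp)).1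
  exact notCP tE7 hK okE7.1 okE7.2.1 (comb_E7 _) (by decide) okE7.2.2

theorem notCP_e83 : NotCP ↥(chevE8.group K) := by
  have : IsSimpleGroup ↥(chevE8.group K) := (S1054.result chevE8 (by simp)).1
  exact notCP tE8 hK okE8.1 okE8.2.1 (comb_E8 _) (by decide) okE8.2.2

end

end Cfsg.Agent.H515.Tall.Chev
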