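import Cfsg.Agent.H515.Tall.Core
import Cfsg.Agent.GenExc.Main
import Cfsg.Agent.BpExc.TorChev
import Cfsg.Agent.FixBN.SplitRGD
import Cfsg.Agent.H226.Tall.Defs

/-!
# 2-central involutions of the groups `D.group K`, `|K| = 3` (S2927 [EX3], helper515)
-/

set_option autoImplicit false
set_option linter.unusedSectionVars false

namespace Cfsg.Agent.H515.Tall.Chev

open Subgroup CoxeterSystem Cfsg Cfsg.Lie Cfsg.Lie.ChevalleyDatum
open Cfsg.Agent.ChevalleyStructure Cfsg.Agent.ChevalleyStructure.Elts Cfsg.Agent.ChevalleyStructure.CoxeterGeom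
  Cfsg.Agent.ChevalleyStructure.RootVec Cfsg.Agent.ChevalleyStructure.RootVecTab
  Cfsg.Agent.ChevalleyStructure.CoxeterGeomTypes Cfsg.Agent.ChevalleyStructure.NPerm
open Cfsg.Agent.Tits.Roots Cfsg.Agent.Tits.Core Cfsg.Agent.Tits.Exchange Cfsg.Agent.Nodes.Reps
  Cfsg.Agent.Nodes.BNOf Cfsg.Agent.Nodes.RGDChev Cfsg.Agent.Nodes.Bruhat
open Cfsg.Agent.GenExc Cfsg.Agent.GenExc.Chev Cfsg.Agent.OddHalf.LongSL Cfsg.Agent.OddHalf.LongSL.Chev
open Cfsg.Agent.KFacts.RgdChevCoord Cfsg.Agent.BpExc.TorCent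
open Cfsg.Agent.ChevalleyStructure.SL2Hom (up lo)
open Cfsg.Agent.H836.T3SL (SL Q8 mem_Q8)
open scoped commutatorElement

/-! ### the field of order three -/

section Field

variable {K : Type} [Field K] [Fintype K]

theorem two_ne (hK : Fintype.card K = 3) : (2 : K) ≠ 0 :=
  two_ne_of_odd (by rw [hK]; decide)

theorem charP (hK : Fintype.card K = 3) : CharP K 3 := by
  have : Fact (Nat.Prime 3) := ⟨Nat.prime_three⟩
  exact charP_of_card_eq_prime_pow (f := 1) (by rw [hK, pow_one])

theorem eq_or (hK : Fintype.card K = 3) {a : K} (ha : a ≠ 0) : a = 1 ∨ a = -1 := by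
  have h1 := FiniteField.pow_card_sub_one_eq_one a ha
  rw [hK] at h1
  have h2 : a * a = 1 := by rw [← pow_two]; exact h1
  exact mul_self_eq_one_iff.1 h2

theorem exists_equiv (hK : Fintype.card K = 3) : Nonempty (ZMod 3 ≃+* K) := by
  have : Fact (Nat.Prime 3) := ⟨Nat.prime_three⟩
  exact ⟨ZMod.ringEquivOfPrime K Nat.prime_three hK⟩

end Field

section SLmap

variable {F K : Type*} [Field F] [Field K] (e : F →+* K)

theorem map_up (t : F) : Matrix.SpecialLinearGroup.map e (up t) = up (e t) := by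
  apply Subtype.ext
  ext i j
  show e ((!![1, t; 0, 1] : Matrix (Fin 2) (Fin 2) F) i j) = (!![1, e t; 0, 1] : Matrix (Fin 2) (Fin 2) K) i j
  fin_cases i <;> fin_cases j <;> simp

theorem map_lo (t : F) : Matrix.SpecialLinearGroup.map e (lo t) = lo (e t) := by
  apply Subtype.ext
  ext i j
  show e ((!![1, 0; t, 1] : Matrix (Fin 2) (Fin 2) F) i j) = (!![1, 0; e t, 1] : Matrix (Fin 2) (Fin 2) K) i j
  fin_cases i <;> fin_cases j <;> simp

theorem map_inj : Function.Injective (Matrix.SpecialLinearGroup.map (n := Fin 2) e) := by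
  intro a b h
  apply Subtype.ext
  ext i j
  have h1 := congrArg (fun g : Matrix.SpecialLinearGroup (Fin 2) K => (g : Matrix (Fin 2) (Fin 2) K) i j) h
  exact e.injective h1

end SLmap

/-! ### the combinatorics -/

/-- the parities of the Cartan numbers of `r` and `s` agree -/
def samePar (D : ChevalleyDatum) (l r s : ℕ) : Bool :=
  (List.range l).all fun j => Nat.beq (Nat.mod (cart D j r) 2) (Nat.mod (cart D j s) 2)

/-- only `± y` have the parities of `y` -/
def chkPar (D : ChevalleyDatum) (l y : ℕ) : Bool :=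
  allLT (fun r => bif samePar D l r y then (Nat.beq r y || Nat.beq r (D.neg y)) else true) D.nroots

/-- no root has even Cartan numbers -/
def chkNo (D : ChevalleyDatum) (l : ℕ) : Bool :=
  allLT (fun r => (List.range l).any fun j => Nat.beq (Nat.mod (cart D j r) 2) 1) D.nroots

section Comb

variable {D : ChevalleyDatum} {l : ℕ} {M : CoxeterMatrix (Fin l)} (hp : IsType D l M)
  {W : Type*} [Group W] (cs : CoxeterSystem M W)

include hp in
theorem pair_iff (j : Fin l) {r : ℕ} (hr : r < D.nroots) :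
    pairing (cartanOf D l) j (vec D l r) % 2 = 0 ↔ cart D j r % 2 = 0 := by
  rw [pairing_vec hp j hr, cartan_eq_cart hp.checked (lt_rank hp j) hr]
  omega

include hp in
theorem exists_odd_pair (hc : chkNo D l = true) {x : Fin l → ℤ} (hx : IsRoot cs hp.isCartan x) :
    ∃ j, pairing (cartanOf D l) j x % 2 ≠ 0 := by
  obtain ⟨r, hr, rfl⟩ := (isRoot_iff hp cs x).1 hx
  unfold chkNo at hc
  rw [allLT_iff] at hc
  obtain ⟨j, hj, h1⟩ := List.any_eq_true.1 (hc r hr)
  rw [List.mem_range] at hj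
  rw [beq_iff] at h1
  refine ⟨⟨j, hj⟩, fun h2 => ?_⟩
  rw [pair_iff hp ⟨j, hj⟩ hr] at h2
  have h3 : cart D j r % 2 = 1 := h1
  have h4 : cart D j r % 2 = 0 := h2
  omega

include hp in
theorem par_cases {y : ℕ} (hy : y < D.nroots) (hc : chkPar D l y = true) {w : W} (hw : Par cs hp.isCartan w) :
    rep cs hp.isCartan w (vec D l y) = vec D l y ∨ rep cs hp.isCartan w (vec D l y) = -vec D l y := by
  obtain ⟨r, hr, e⟩ := (isRoot_iff hp cs _).1 ((isRoot_vec hp cs hy).act w)
  unfold chkPar at hc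
  rw [allLT_iff] at hc
  have h1 := hc r hr
  have h2 : samePar D l r y = true := by
    unfold samePar
    rw [List.all_eq_true]
    intro j hj
    rw [List.mem_range] at hj
    rw [beq_iff]
    have h3 := hw ⟨j, hj⟩ _ (isRoot_vec hp cs hy)
    rw [← e, pair_iff hp ⟨j, hj⟩ hr, pair_iff hp ⟨j, hj⟩ hy] at h3
    have h4 : cart D j r % 2 = 0 ↔ cart D j y % 2 = 0 := h3
    show cart D j r % 2 = cart D j y % 2
    omega
  rw [h2, cond_true, Bool.or_eq_true, beq_iff, beq_iff] at h1
  rcases h1 with rfl | rfl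
  · left; exact e.symm
  · right
    rw [← e, vec_neg hp hy]

/-- a root adjacent to a fixed root is fixed -/
theorem fix_adj {I W : Type*} [Fintype I] [DecidableEq I] [Group W] {M : CoxeterMatrix I} {cs : CoxeterSystem M W}
    {A : I → I → ℤ} {h : IsCartan M A} {w : W} {x y : I → ℤ} (hx : rep cs h w x = x)
    (hy : rep cs h w y = y ∨ rep cs h w y = -y) (hxy : IsRoot cs h (x + y)) {i j : I} (hi : 0 < x i) (hi' : y i = 0)
    (hj : 0 < y j) (hj' : x j = 0) : rep cs h w y = y := by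
  rcases hy with h1 | h1
  · exact h1
  · exfalso
    have h2 := hxy.act w
    rw [map_add, hx, h1] at h2
    rcases h2.pos_or_neg with h3 | h3
    · have := h3 j
      simp only [Pi.add_apply, Pi.neg_apply, Pi.zero_apply, hj'] at this
      omega
    · have := h3 i
      simp only [Pi.add_apply, Pi.neg_apply, Pi.zero_apply, hi'] at this
      omega

/-- the sum of the fundamental roots `i ≠ j` with `A i j = -1` is a root -/
theorem isRoot_add {I W : Type*} [Fintype I] [DecidableEq I] [Group W] {M : CoxeterMatrix I} {cs : CoxeterSystem M W}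
    {A : I → I → ℤ} {h : IsCartan M A} {i j : I} (hA : A i j = -1) : IsRoot cs h (sr i + sr j) := by
  have h1 := (isRoot_sr cs h j).act (cs.simple i)
  rw [rep_simple_eq] at h1
  have h2 : pairing A i (sr j : I → ℤ) = A i j := by
    unfold pairing
    rw [Finset.sum_eq_single j]
    · rw [sr_self, mul_one]
    · intro k _ hk
      rw [sr_ne hk, mul_zero]
    · intro hj
      exact absurd (Finset.mem_univ j) hj
  rw [h2, hA, neg_smul, one_smul, sub_neg_eq_add, add_comm] at h1
  exact h1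

theorem fix_sr {I W : Type*} [Fintype I] [DecidableEq I] [Group W] {M : CoxeterMatrix I} {cs : CoxeterSystem M W}
    {A : I → I → ℤ} {h : IsCartan M A} {w : W} {i j : I} (hij : i ≠ j) (hA : A i j = -1)
    (hx : rep cs h w (sr i) = sr i) (hy : rep cs h w (sr j) = sr j ∨ rep cs h w (sr j) = -sr j) :
    rep cs h w (sr j) = sr j :=
  fix_adj hx hy (isRoot_add hA) (i := i) (j := j) (by rw [sr_self]; norm_num) (sr_ne hij)
    (by rw [sr_self]; norm_num) (sr_ne hij.symm)

/-- an element fixing the fundamental roots is trivial -/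
theorem eq_one {I W : Type*} [Fintype I] [DecidableEq I] [Group W] [Finite W] {M : CoxeterMatrix I}
    {cs : CoxeterSystem M W} {A : I → I → ℤ} {h : IsCartan M A} {w : W} (hw : ∀ i, rep cs h w (sr i) = sr i) :
    w = 1 := by
  refine BpExc.Fix.eq_one_of_fix (cs := cs) (h := h) Nodes.Slope.htHom (fun x hx => Nodes.Slope.ht_ne_zero hx)
    fun x => ?_
  have h1 : rep cs h w x = x := by
    have h4 : x = ∑ k, x k • (sr k : I → ℤ) := by
      funext j
      rw [Finset.sum_apply]
      simp only [Pi.smul_apply, smul_eq_mul]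
      rw [Finset.sum_eq_single j]
      · rw [sr_self, mul_one]
      · intro k _ hk
        rw [sr_ne (Ne.symm hk), mul_zero]
      · intro hj
        exact absurd (Finset.mem_univ j) hj
    conv_lhs => rw [h4]
    rw [map_sum]
    conv_rhs => rw [h4]
    exact Finset.sum_congr rfl fun k _ => by rw [map_smul, hw]
  rw [h1]

end Comb

/-! ### the torus -/

section Torus

variable {D : ChevalleyDatum} {l : ℕ} {M : CoxeterMatrix (Fin l)} (hp : IsType D l M)
  {K : Type} [Field K] [Fintype K] (hK : Fintype.card K = 3)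
  {W : Type*} [Group W] (cs : CoxeterSystem M W)

include hp hK in
theorem sq_T {t : ↥(D.group K)} (ht : t ∈ TT D K) : t * t = 1 := by
  have hT : ∀ g ∈ Subgroup.closure {g | ∃ (j : Fin l) (c : K), c ≠ 0 ∧ g = hc hp j c}, g ∈ TT D K := by
    intro g hg
    refine (Subgroup.closure_le _).2 ?_ hg
    rintro _ ⟨j, c, hc0, rfl⟩
    exact hc_mem hp j hc0
  refine Subgroup.closure_induction (p := fun t _ => t * t = 1) ?_ ?_ ?_ ?_ (BpExc.TorChev.TT_le hp ht)
  · rintro _ ⟨j, c, hc0, rfl⟩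
    rcases eq_or hK hc0 with rfl | rfl
    · apply Subtype.ext
      rw [Subgroup.coe_mul]
      show hG hp.inList (D.simple j) (1 : K) * hG hp.inList (D.simple j) (1 : K) = 1
      rw [NConj.hG_one, one_mul]
    · have h1 : hc hp j (-1 : K) = phi hp K j (-1) := Subtype.ext (phi_neg_one hp K j).symm
      rw [h1, ← map_mul, neg_one_mul, _root_.neg_neg, map_one]
  · exact one_mul 1
  · intro a b ha hb h1 h2
    have h3 := BpExc.TorChev.TT_comm hp a (hT a ha) b (hT b hb)
    calc a * b * (a * b) = a * (b * a) * b := by group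
      _ = a * (a * b) * b := by rw [h3]
      _ = (a * a) * (b * b) := by group
      _ = 1 := by rw [h1, h2, one_mul]
  · intro a ha h1
    rw [← mul_inv_rev, h1, inv_one]

include hp hK in
theorem isPGroup_T : IsPGroup 2 ↥(TT D K) := by
  intro x
  refine ⟨1, Subtype.ext ?_⟩
  rw [pow_one, pow_two]
  exact sq_T hp hK x.2

include hp in
theorem phi_injective (h2 : (2 : K) ≠ 0) {i : Fin l} (ho : oddB D [i] = true) :
    Function.Injective (phi hp K i) := by
  rw [injective_iff_map_eq_one]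
  intro g hg
  have hg' : SL2Hom.phi (SL2All.good_of_mem D hp.inList (D.simple i) (simple_lt hp.inList (lt_rank hp i))) K g = 1 :=
    congrArg Subtype.val hg
  rcases phi_eq_one _ hg' with h | h
  · exact h
  · exfalso
    obtain ⟨r, hr, h3⟩ := GenExc.Chev.exists_odd hp ho
    refine zS_ne_one hp h2 hr h3 ?_
    rw [zS_cons, zS_nil, mul_one, ← h, hg]

include hK in
/-- **A 2-central element is conjugate to an element of the torus.** -/
theorem torus (hno : chkNo D l = true) {i₀ : Fin l} (ho : oddB D [i₀] = true)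
    (hcomb : ∀ w : W, Par cs hp.isCartan w → w = 1 ∨ rep cs hp.isCartan w (sr i₀) = - sr i₀)
    {z : ↥(D.group K)} {P : Sylow 2 ↥(D.group K)} (hz : (P : Subgroup ↥(D.group K)) ≤ centralizer {z}) :
    ∃ g : ↥(D.group K), g * z * g⁻¹ ∈ TT D K := by
  have : Fact (Nat.Prime 3) := ⟨Nat.prime_three⟩
  have : CharP K 3 := charP hK
  have : Finite W := finite_W hp cs
  have h2 : (2 : K) ≠ 0 := two_ne hK
  have R := rgd (K := K) hp cs 3
  obtain ⟨e⟩ := exists_equiv hK
  have hinj : Function.Injective ((phi hp K i₀).comp (Matrix.SpecialLinearGroup.map e.toRingHom)) :=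
    (phi_injective hp h2 ho).comp (map_inj e.toRingHom)
  have hr := simple_lt hp.inList (lt_rank hp i₀)
  have hup : ∀ t : K, phi hp K i₀ (up t) ∈ XX D l K (sr i₀) := fun t => by
    rw [Subgroup.mem_subgroupOf, phi_up, XV_sr hp i₀]
    exact xG_mem_rootSubgroup _ _ _
  have hlo : ∀ t : K, phi hp K i₀ (lo t) ∈ XX D l K (-sr i₀) := fun t => by
    rw [Subgroup.mem_subgroupOf, phi_lo, XV_neg_sr hp i₀]
    exact xG_mem_rootSubgroup _ _ _
  have hup' : ∀ u ∈ XX D l K (sr i₀), ∃ t, phi hp K i₀ (up t) = u := fun u hu => by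
    rw [Subgroup.mem_subgroupOf, XV_sr hp i₀, mem_rootSubgroup_iff hp.inList] at hu
    obtain ⟨t, ht⟩ := hu
    exact ⟨t, Subtype.ext (by rw [phi_up, ht])⟩
  have hlo' : ∀ u ∈ XX D l K (-sr i₀), ∃ t, phi hp K i₀ (lo t) = u := fun u hu => by
    rw [Subgroup.mem_subgroupOf, XV_neg_sr hp i₀, mem_rootSubgroup_iff hp.inList] at hu
    obtain ⟨t, ht⟩ := hu
    exact ⟨t, Subtype.ext (by rw [phi_lo, ht])⟩
  have hrange : ((phi hp K i₀).comp (Matrix.SpecialLinearGroup.map e.toRingHom)).range =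
      XX D l K (sr i₀) ⊔ XX D l K (-sr i₀) := by
    apply le_antisymm
    · rw [MonoidHom.range_eq_map, Subgroup.map_le_iff_le_comap]
      intro g _
      refine (Subgroup.closure_le _).2 ?_ (SL2Hom.mem_closure_SL2 g)
      rintro x (⟨t, rfl⟩ | ⟨t, rfl⟩)
      · rw [SetLike.mem_coe, Subgroup.mem_comap, MonoidHom.comp_apply, map_up]
        exact Subgroup.mem_sup_left (hup _)
      · rw [SetLike.mem_coe, Subgroup.mem_comap, MonoidHom.comp_apply, map_lo]
        exact Subgroup.mem_sup_right (hlo _)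
    · refine sup_le ?_ ?_
      · intro u hu
        obtain ⟨t, rfl⟩ := hup' u hu
        refine ⟨up (e.symm t), ?_⟩
        show phi hp K i₀ (Matrix.SpecialLinearGroup.map e.toRingHom (up _)) = _
        rw [map_up]
        exact congrArg (fun s => phi hp K i₀ (up s)) (e.apply_symm_apply t)
      · intro u hu
        obtain ⟨t, rfl⟩ := hlo' u hu
        refine ⟨lo (e.symm t), ?_⟩
        show phi hp K i₀ (Matrix.SpecialLinearGroup.map e.toRingHom (lo _)) = _
        rw [map_lo]
        exact congrArg (fun s => phi hp K i₀ (lo s)) (e.apply_symm_apply t)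
  have hcs : ∀ (j : Fin l) {r : ℕ}, r < D.nroots → (csum D [j] r = pairing (cartanOf D l) j (vec D l r)) := by
    intro j r hr
    rw [pairing_vec hp j hr]
    show D.cartan j r + 0 = _
    rw [add_zero]
  refine mem_T R (KFacts.RgdRigid.GG_eq_top (G1_eq_top hp cs)) (isPGroup_T hp hK) (fun j => zS hp K [j])
    (fun j => zS_mem_T hp K [j]) ?_ ?_ (fun x hx => exists_odd_pair hp cs hno hx) hcomb hinj ?_ ?_ ?_ hz
  · intro j x hx hev u hu
    obtain ⟨r, hr, rfl⟩ := (isRoot_iff hp cs x).1 hx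
    exact commute_zS hp K hr (by rw [hcs j hr, Int.even_iff]; exact hev) hu
  · intro j x hx hodd u hu hc
    obtain ⟨r, hr, rfl⟩ := (isRoot_iff hp cs x).1 hx
    exact not_commute_zS hp h2 hr (by rw [hcs j hr, Int.even_iff]; exact hodd) hu hc
  · show phi hp K i₀ (Matrix.SpecialLinearGroup.map e.toRingHom (up 1)) ∈ _
    rw [map_up]
    exact hup _
  · intro u hu
    obtain ⟨t, rfl⟩ := hlo' u hu
    refine ⟨e.symm t, ?_⟩
    show _ = phi hp K i₀ (Matrix.SpecialLinearGroup.map e.toRingHom (lo _))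
    rw [map_lo]
    exact congrArg (fun s => phi hp K i₀ (lo s)) (e.apply_symm_apply t).symm
  · rw [hrange]
    intro t ht
    rw [mem_normalizer_iff_cj, cj_sup, R.tor _ (isRoot_sr cs hp.isCartan i₀) t ht,
      R.tor _ (isRoot_sr cs hp.isCartan i₀).neg t ht]

end Torus

/-! ### perfect subgroups of the centralizers of the elements of the torus -/

/-- the coefficients of `r` outside of `J` vanish -/
def supB (D : ChevalleyDatum) {l : ℕ} (J : List (Fin l)) (r : ℕ) : Bool :=
  (List.finRange l).all fun k => (J.any fun j => decide (j = k)) || Nat.beq (dig (code D r) (D.rank - 1 - k)) 8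

/-- the sum of the coefficients of `r` at the nodes in `S` is even -/
def evC (D : ChevalleyDatum) {l : ℕ} (S : List (Fin l)) (r : ℕ) : Bool :=
  Nat.beq (Nat.mod ((S.map fun k : Fin l => dig (code D r) (D.rank - 1 - k)).sum) 2) 0

/-- `(r, r₁, r₂)` : `r` is the only term of the commutator formula for `r₁`, `r₂`, with coefficient `± 1` -/
def okT (D : ChevalleyDatum) {l : ℕ} (J : List (Fin l)) (Φ : List (ℕ × ℕ × ℕ)) (c : ℕ × ℕ × ℕ) : Bool :=
  Nat.blt c.1 D.nroots && supB D J c.1 && (Φ.any fun a => Nat.beq a.1 c.2.1) && (Φ.any fun a => Nat.beq a.1 c.2.2) &&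
    !(Nat.beq c.2.2 c.2.1) && !(Nat.beq c.2.2 (D.neg c.2.1)) &&
    (decide (D.commTerms c.2.1 c.2.2 = [(c.1, 1, 1, 1)]) || decide (D.commTerms c.2.1 c.2.2 = [(c.1, -1, 1, 1)]))

/-- the certificate -/
def chkC (D : ChevalleyDatum) {l : ℕ} (J : List (Fin l)) (C : List (List (ℕ × ℕ × ℕ))) : Bool :=
  (C.all fun Φ => !Φ.isEmpty && Φ.all (okT D J Φ)) &&
    (J.sublists.all fun S => C.any fun Φ => Φ.all fun c => evC D S c.1)

section Kill

variable {D : ChevalleyDatum} {l : ℕ} {M : CoxeterMatrix (Fin l)} (hp : IsType D l M)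
  {K : Type} [Field K] [Fintype K] {W : Type*} [Group W] (cs : CoxeterSystem M W)

include hp in
/-- `x_r(c t u) ∈ [J, J]` from the commutator formula -/
theorem mem_comm {J : Subgroup ↥(D.group K)} {r r1 r2 : ℕ} {C : ℤ} (hC : (C : K) ≠ 0) (h1 : r1 < D.nroots)
    (h1' : r2 < D.nroots) (hJ1 : XX D l K (vec D l r1) ≤ J) (hJ2 : XX D l K (vec D l r2) ≤ J)
    (hne : r2 ≠ r1) (hneg : r2 ≠ D.neg r1) (hct : D.commTerms r1 r2 = [(r, C, 1, 1)]) (hr : r < D.nroots) :
    XX D l K (vec D l r) ≤ ⁅J, J⁆ := by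
  intro u hu
  obtain ⟨t, ht⟩ := (mem_XX hp K hr).1 hu
  have h3 := comm_xG hp (K := K) h1 h1' hne hneg (-(t / C)) 1
  have h4 : D.commWord K r1 r2 (-(t / C)) 1 = [(r, t)] := by
    show (D.commTerms r1 r2).map _ = _
    rw [hct]
    simp only [List.map_cons, List.map_nil, pow_one, one_pow, mul_one, _root_.neg_neg]
    rw [mul_div_cancel₀ _ hC]
  rw [h4, wordG_cons, wordG_nil, mul_one] at h3
  have h5 : u = ⁅(⟨xG hp.inList r2 1, xG_mem_group hp.inList _ 1⟩ : ↥(D.group K))⁻¹,
      (⟨xG hp.inList r1 (-(t / C)), xG_mem_group hp.inList _ _⟩ : ↥(D.group K))⁻¹⁆ := by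
    apply Subtype.ext
    rw [ht]
    exact h3.symm
  rw [h5]
  exact Subgroup.commutator_mem_commutator (inv_mem (hJ2 ((mem_XX hp K h1').2 ⟨_, rfl⟩)))
    (inv_mem (hJ1 ((mem_XX hp K h1).2 ⟨_, rfl⟩)))

theorem phi_prod {φ : (Fin l → ℤ) → K} (h0 : φ 0 = 1) (hadd : ∀ x y, φ (x + y) = φ x * φ y) (x : Fin l → ℤ) :
    φ x = ∏ k, φ (sr k) ^ x k := by
  have hne : ∀ x, φ x ≠ 0 := fun x hx => by
    have h1 := hadd x (-x)
    rw [add_neg_cancel, h0, hx, zero_mul] at h1
    exact one_ne_zero h1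
  have hneg : ∀ x, φ (-x) = (φ x)⁻¹ := fun x => by
    have h1 := hadd x (-x)
    rw [add_neg_cancel, h0] at h1
    exact eq_inv_of_mul_eq_one_right h1.symm
  have hnat : ∀ (m : ℕ) x, φ ((m : ℤ) • x) = φ x ^ m := by
    intro m x
    induction m with
    | zero => rw [Nat.cast_zero, zero_smul, h0, pow_zero]
    | succ m ih => rw [Nat.cast_succ, add_smul, one_smul, hadd, ih, pow_succ]
  have hsmul : ∀ (m : ℤ) x, φ (m • x) = φ x ^ m := by
    intro m x
    obtain ⟨m, rfl | rfl⟩ := Int.eq_nat_or_neg m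
    · rw [hnat, zpow_natCast]
    · rw [neg_smul, hneg, hnat, zpow_neg, zpow_natCast]
  have hsum : ∀ (s : Finset (Fin l)), φ (∑ k ∈ s, x k • (sr k : Fin l → ℤ)) = ∏ k ∈ s, φ (sr k) ^ x k := by
    intro s
    classical
    induction s using Finset.induction_on with
    | empty => rw [Finset.sum_empty, Finset.prod_empty, h0]
    | insert a s ha ih => rw [Finset.sum_insert ha, Finset.prod_insert ha, hadd, ih, hsmul]
  rw [← hsum]
  congr 1
  funext j
  rw [Finset.sum_apply]
  simp only [Pi.smul_apply, smul_eq_mul]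
  rw [Finset.sum_eq_single j]
  · rw [sr_self, mul_one]
  · intro k _ hk
    rw [sr_ne (Ne.symm hk), mul_zero]
  · intro hj
    exact absurd (Finset.mem_univ j) hj

include hp in
/-- the value of the character of an element of the torus at a root of the certificate -/
theorem phi_one {φ : (Fin l → ℤ) → K} (h0 : φ 0 = 1) (hadd : ∀ x y, φ (x + y) = φ x * φ y)
    (hs : ∀ k, φ (sr k) = 1 ∨ φ (sr k) = -1) {J S : List (Fin l)}
    (hS : ∀ k, k ∈ S ↔ k ∈ J ∧ φ (sr k) ≠ 1) (hSn : S.Nodup) {r : ℕ} (hr : r < D.nroots) (h1 : supB D J r = true)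
    (h2 : evC D S r = true) : φ (vec D l r) = 1 := by
  classical
  rw [phi_prod h0 hadd]
  have h3 : ∀ k : Fin l, (dig (code D r) (D.rank - 1 - k) : ℤ) = vec D l r k + 8 := by
    intro k
    rw [vec_apply, rt_of_lt hr (lt_rank hp k)]
    ring
  have h4 : ∏ k, φ (sr k) ^ (vec D l r k) = ∏ k ∈ S.toFinset, (-1 : K) ^ (vec D l r k) := by
    symm
    rw [← Finset.prod_subset (Finset.subset_univ S.toFinset)]
    · refine Finset.prod_congr rfl fun k hk => ?_
      rw [List.mem_toFinset, hS] at hk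
      rw [(hs k).resolve_left hk.2]
    · intro k _ hk
      rw [List.mem_toFinset, hS] at hk
      by_cases hkJ : k ∈ J
      · have h5 : φ (sr k) = 1 := by
          by_contra h5
          exact hk ⟨hkJ, h5⟩
        rw [h5, one_zpow]
      · unfold supB at h1
        rw [List.all_eq_true] at h1
        have h5 := h1 k (List.mem_finRange k)
        rw [Bool.or_eq_true, List.any_eq_true, beq_iff] at h5
        rcases h5 with ⟨j, hj, h5⟩ | h5
        · rw [decide_eq_true_eq] at h5
          subst h5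
          exact absurd hj hkJ
        · have h6 := h3 k
          rw [h5] at h6
          have h7 : vec D l r k = 0 := by push_cast at h6; omega
          rw [h7, zpow_zero]
  have h5 : ∀ s : Finset (Fin l), ∏ k ∈ s, (-1 : K) ^ (vec D l r k) = (-1) ^ (∑ k ∈ s, vec D l r k) := by
    intro s
    induction s using Finset.induction_on with
    | empty => rw [Finset.prod_empty, Finset.sum_empty, zpow_zero]
    | insert a s ha ih =>
      rw [Finset.sum_insert ha, Finset.prod_insert ha, ih, zpow_add₀ (neg_ne_zero.2 one_ne_zero)]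
  rw [h4, h5]
  apply Even.neg_one_zpow
  unfold evC at h2
  rw [beq_iff, ← List.sum_toFinset _ hSn] at h2
  have h6 : (∑ k ∈ S.toFinset, dig (code D r) (D.rank - 1 - k)) % 2 = 0 := h2
  have h7 : ((∑ k ∈ S.toFinset, dig (code D r) (D.rank - 1 - k) : ℕ) : ℤ) =
      ∑ k ∈ S.toFinset, vec D l r k + 8 * S.toFinset.card := by
    rw [Nat.cast_sum, Finset.sum_congr rfl fun k _ => h3 k, Finset.sum_add_distrib, Finset.sum_const]
    simp [mul_comm]
  rw [Int.even_iff]
  omega

include hp in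
/-- **No element of the torus.** -/
theorem no_T (hK : Fintype.card K = 3) {J : List (Fin l)} (hJ : J.Nodup) {C : List (List (ℕ × ℕ × ℕ))}
    (hC : chkC D J C = true) {z : ↥(D.group K)} (hz : z ∈ TT D K)
    (hRS : H236.RS 3 ↥(centralizer ({z} : Set ↥(D.group K)))) : False := by
  classical
  have : Fact (Nat.Prime 3) := ⟨Nat.prime_three⟩
  have : CharP K 3 := charP hK
  let cs : CoxeterSystem M M.Group := M.toCoxeterSystem
  have : Finite M.Group := finite_W hp cs
  have R := rgd (K := K) hp cs 3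
  have Co := coords (K := K) hp cs 3
  obtain ⟨φ, h0, hadd, hφ⟩ := BpExc.TorChev.chAdd hp cs 3 z hz
  have hs : ∀ k, φ (sr k) = 1 ∨ φ (sr k) = -1 := fun k => by
    rw [← hφ _ (isRoot_sr cs hp.isCartan k)]
    exact eq_or hK ((Co.coord _ (isRoot_sr cs hp.isCartan k)).chi_ne_zero hz)
  obtain ⟨S, hS⟩ : ∃ S, S = J.filter fun k => decide (φ (sr k) ≠ 1) := ⟨_, rfl⟩
  have hSm : ∀ k, k ∈ S ↔ k ∈ J ∧ φ (sr k) ≠ 1 := fun k => by
    rw [hS, List.mem_filter, decide_eq_true_eq]
  have hSn : S.Nodup := by rw [hS]; exact hJ.filter _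
  unfold chkC at hC
  rw [Bool.and_eq_true, List.all_eq_true, List.all_eq_true] at hC
  have h1 := hC.2 S (List.mem_sublists.2 (by rw [hS]; exact List.filter_sublist))
  rw [List.any_eq_true] at h1
  obtain ⟨Φ, hΦ, h1⟩ := h1
  rw [List.all_eq_true] at h1
  have h2 := hC.1 Φ hΦ
  rw [Bool.and_eq_true, List.all_eq_true] at h2
  have h3 : ∀ c ∈ Φ, c.1 < D.nroots ∧ supB D J c.1 = true ∧ (∃ a ∈ Φ, a.1 = c.2.1) ∧ (∃ a ∈ Φ, a.1 = c.2.2) ∧
      c.2.2 ≠ c.2.1 ∧ c.2.2 ≠ D.neg c.2.1 ∧ ∃ m : ℤ, (m : K) ≠ 0 ∧ D.commTerms c.2.1 c.2.2 = [(c.1, m, 1, 1)] := by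
    intro c hc
    have h4 := h2.2 c hc
    unfold okT at h4
    simp only [Bool.and_eq_true, Bool.or_eq_true, decide_eq_true_eq, Bool.not_eq_true', blt_iff, List.any_eq_true,
      beq_iff] at h4
    obtain ⟨⟨⟨⟨⟨⟨h5, h6⟩, h7⟩, h8⟩, h9⟩, h10⟩, h11⟩ := h4
    refine ⟨h5, h6, h7, h8, ?_, ?_, ?_⟩
    · intro h
      rw [← beq_iff, h9] at h
      exact absurd h (by decide)
    · intro h
      rw [← beq_iff, h10] at h
      exact absurd h (by decide)
    · rcases h11 with h11 | h11
      · exact ⟨1, by push_cast; exact one_ne_zero, h11⟩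
      · exact ⟨-1, by push_cast; exact neg_ne_zero.2 one_ne_zero, h11⟩
  have hcomm : ∀ c ∈ Φ, XX D l K (vec D l c.1) ≤ centralizer ({z} : Set ↥(D.group K)) := by
    intro c hc u hu
    obtain ⟨hr, hsup, -⟩ := h3 c hc
    have h4 := phi_one hp h0 hadd hs hSm hSn hr hsup (h1 c hc)
    rw [← hφ _ (isRoot_vec hp cs hr)] at h4
    obtain ⟨a, rfl⟩ := ((Co.coord _ (isRoot_vec hp cs hr)).mem u).1 hu
    have h5 := (Co.coord _ (isRoot_vec hp cs hr)).act z hz a
    rw [h4, one_mul, mul_inv_eq_iff_eq_mul] at h5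
    exact mem_centralizer_singleton_iff.2 h5.symm
  obtain ⟨s, hs'⟩ : ∃ s : Set ↥(D.group K), s = {u | ∃ c ∈ Φ, u ∈ XX D l K (vec D l c.1)} := ⟨_, rfl⟩
  have hle : ∀ c ∈ Φ, XX D l K (vec D l c.1) ≤ closure s := fun c hc u hu =>
    subset_closure (by rw [hs']; exact ⟨c, hc, hu⟩)
  have hbot := kill (J := closure s) hRS (by
      rw [closure_le, hs']
      rintro u ⟨c, hc, hu⟩
      exact hcomm c hc hu) rfl (by
      intro u hu
      rw [hs'] at hu
      obtain ⟨c, hc, hu⟩ := hu
      have hr := (h3 c hc).1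
      have hco := Co.coord _ (isRoot_vec hp cs hr)
      obtain ⟨a, rfl⟩ := (hco.mem u).1 hu
      rw [pow_succ, pow_two, ← hco.add, ← hco.add]
      have h4 : a + a + a = 0 := by
        have h5 : ((3 : ℕ) : K) = 0 := CharP.cast_eq_zero K 3
        push_cast at h5
        linear_combination a * h5
      rw [h4, hco.zero]) (by
      rw [closure_le]
      intro u hu
      rw [hs'] at hu
      obtain ⟨c, hc, hu⟩ := hu
      obtain ⟨hr, -, ⟨a, ha, ha'⟩, ⟨b, hb, hb'⟩, hne, hneg, m, hm, hct⟩ := h3 c hc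
      have har := (h3 a ha).1
      have hbr := (h3 b hb).1
      rw [ha'] at har
      rw [hb'] at hbr
      exact mem_comm hp hm har hbr (by rw [← ha']; exact hle a ha) (by rw [← hb']; exact hle b hb) hne hneg hct hr hu)
  obtain ⟨c, hc⟩ : ∃ c, c ∈ Φ := by
    cases Φ with
    | nil => simp at h2
    | cons c Φ => exact ⟨c, List.mem_cons_self⟩
  refine X_ne_bot R (isRoot_vec hp cs (h3 c hc).1) (eq_bot_iff.2 ?_)
  rw [← hbot]
  exact hle c hc

end Kill

/-! ### the theorem -/

theorem rs_conj {G : Type*} [Group G] [Finite G] {z g : G} (h : H236.RS 3 ↥(centralizer ({z} : Set G))) :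
    H236.RS 3 ↥(centralizer ({g * z * g⁻¹} : Set G)) := by
  have : Fact (Nat.Prime 3) := ⟨Nat.prime_three⟩
  have h1 : ∀ x ∈ centralizer ({g * z * g⁻¹} : Set G), g⁻¹ * x * g ∈ centralizer ({z} : Set G) := by
    intro x hx
    rw [mem_centralizer_singleton_iff] at hx ⊢
    calc g⁻¹ * x * g * z = g⁻¹ * (x * (g * z * g⁻¹)) * g := by group
      _ = g⁻¹ * (g * z * g⁻¹ * x) * g := by rw [hx]
      _ = z * (g⁻¹ * x * g) := by group
  let f : ↥(centralizer ({g * z * g⁻¹} : Set G)) →* ↥(centralizer ({z} : Set G)) :=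
    { toFun := fun x => ⟨g⁻¹ * x * g, h1 x x.2⟩
      map_one' := Subtype.ext (by show g⁻¹ * 1 * g = 1; group)
      map_mul' := fun x y => Subtype.ext (by
        show g⁻¹ * ((x : G) * (y : G)) * g = g⁻¹ * (x : G) * g * (g⁻¹ * (y : G) * g)
        group) }
  refine h.of_injective f fun x y e => ?_
  have h2 : g⁻¹ * (x : G) * g = g⁻¹ * (y : G) * g := congrArg Subtype.val e
  exact Subtype.ext (mul_left_cancel (mul_right_cancel h2))

theorem notCP {D : ChevalleyDatum} {l : ℕ} {M : CoxeterMatrix (Fin l)} (hp : IsType D l M) {K : Type} [Field K]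
    [Fintype K] (hK : Fintype.card K = 3) [IsSimpleGroup ↥(D.group K)] (hno : chkNo D l = true) {i₀ : Fin l}
    (ho : oddB D [i₀] = true) (hcomb : ∀ w : M.Group, Par M.toCoxeterSystem hp.isCartan w → w = 1 ∨
      rep M.toCoxeterSystem hp.isCartan w (sr i₀) = - sr i₀) {J : List (Fin l)} (hJ : J.Nodup)
    {C : List (List (ℕ × ℕ × ℕ))} (hC : chkC D J C = true) : H226.Tall.NotCP ↥(D.group K) := by
  rintro z ⟨hz, P, hP⟩ hcp
  have : Fact (Nat.Prime 3) := ⟨Nat.prime_three⟩
  have : Fact (Nat.Prime 2) := ⟨Nat.prime_two⟩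
  have : CharP K 3 := charP hK
  have : Finite M.Group := finite_W hp M.toCoxeterSystem
  have : Nonempty (Fin l) := ⟨i₀⟩
  obtain ⟨g, hg⟩ := torus hp hK M.toCoxeterSystem hno ho hcomb hP
  have hsplit : FixBN.HasSplit 3 ↥(D.group K) :=
    FixBN.SplitRGD.hasSplit_of_rgd_top Nat.prime_three (rgd (K := K) hp M.toCoxeterSystem 3) (G1_eq_top hp _)
  have h1 := H236.rs_centralizer (p := 2) (r := 3) (by norm_num) hsplit z (by rw [← hz]; exact pow_orderOf_eq_one z) hcp
  exact no_T hp hK hJ hC hg (rs_conj h1)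

end Cfsg.Agent.H515.Tall.Chev
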