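import Cfsg.Agent.H226.Tall.Defs
import Cfsg.Agent.H237.LongKill
import Cfsg.Agent.OddHalf.NI3.K.TwD4

/-!
# `³D₄(q)`, `q` odd : no 2-central involution has a centralizer of characteristic 2 (S2927 [EX3T], helper515)

`notCP_of_long` : the same for all groups with `HasLong q`, `q > 3`.
-/

set_option autoImplicit false

namespace Cfsg.Agent.H515.Tall

open Subgroup Cfsg Cfsg.Lie Cfsg.Agent.H226.Tall

theorem notCP_of_long {K : Type*} [Group K] [Finite K] {q : ℕ} (hq : 3 < q) (h : OddHalf.LongSL.HasLong q K) :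
    NotCP K := by
  rintro z ⟨hz, P, hP⟩ hcp
  exact H237.LongKill.long_kill hq h hz hcp hP

theorem notCP_d4 {F : Type} [Field F] [Fintype F] {q : ℕ} (hq : IsPrimePow q) (hF : Fintype.card F = q ^ 3)
    (ho : Odd q) : NotCP ↥(twistedD4 F q) := by
  have h3 : 3 ≤ q := by
    obtain ⟨t, ht⟩ := ho
    have := hq.one_lt
    omega
  refine notCP_of_long (q := q ^ 3) ?_ (OddHalf.NI3.K.TwD4.hasLong_short hq hF ho)
  calc 3 < 3 ^ 3 := by norm_num
    _ ≤ q ^ 3 := Nat.pow_le_pow_left h3 3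

theorem notCP_d43 {F : Type} [Field F] [Fintype F] (hF : Fintype.card F = 3 ^ 3) : NotCP ↥(twistedD4 F 3) :=
  notCP_d4 Nat.prime_three.isPrimePow hF (by decide)

end Cfsg.Agent.H515.Tall
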