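import Cfsg.Agent.H515.Tall.Chev
import Cfsg.Agent.GenExc.TwE
import Cfsg.Agent.S1070
import Cfsg.Agent.Cit.LongAbs

/-!
# `²E₆(3)` : no 2-central involution has a centralizer of characteristic 2 (S2927 [EX3T], helper515)
-/

set_option autoImplicit false
set_option linter.unusedSectionVars false
set_option maxHeartbeats 400000

namespace Cfsg.Agent.H515.Tall

section Neg

open Subgroup CoxeterSystem Cfsg.Agent.ChevalleyStructure.CoxeterGeom Cfsg.Agent.Tits.Roots Cfsg.Agent.Tits.Core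
  Cfsg.Agent.Tits.Exchange Cfsg.Agent.Nodes.Reps Cfsg.Agent.Nodes.BNOf Cfsg.Agent.Nodes.StabComb
  Cfsg.Agent.Nodes.Bruhat

variable {I W Y : Type*} [Fintype I] [DecidableEq I] [Group W] [Group Y] {M : CoxeterMatrix I}
  {cs : CoxeterSystem M W} {A : I → I → ℤ} {h : IsCartan M A} {p : ℕ} {T : Subgroup Y} {n : I → Y}
  {X : (I → ℤ) → Subgroup Y}

/-- an element of the torus centralising `X_i` centralises `X_{-i}` -/
theorem cent_neg (R : RGD cs h p T n X) [Finite W] [Finite Y] (hc : ∀ a ∈ T, ∀ b ∈ T, a * b = b * a) {z : Y}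
    (hz : z ∈ T) {i : I} (hi : ∀ u ∈ X (sr i), z * u = u * z) : ∀ u ∈ X (-sr i), z * u = u * z := by
  intro u hu
  by_cases hu1 : u = 1
  · rw [hu1, mul_one, one_mul]
  obtain ⟨a, ha, t, ht, b, hb, e⟩ := R.rk1 i u hu hu1
  have hni : n i * z⁻¹ * (n i)⁻¹ ∈ T := (mem_normalizer_iff.1 (R.nsys.norm i) _).1 (inv_mem hz)
  obtain ⟨τ, hτ⟩ : ∃ τ, τ = z * (n i * z⁻¹ * (n i)⁻¹) := ⟨_, rfl⟩
  have hτT : τ ∈ T := by rw [hτ]; exact mul_mem hz hni
  have h1 : z * u * z⁻¹ * u⁻¹ = a * τ * a⁻¹ := by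
    have h2 : z * a = a * z := hi a ha
    have h3 : z * b = b * z := hi b hb
    have h4 : z * t = t * z := hc z hz t ht
    have h5 : b * z⁻¹ = z⁻¹ * b := by
      rw [eq_inv_mul_iff_mul_eq, ← mul_assoc, h3, mul_inv_cancel_right]
    have h6 : t * τ = τ * t := hc t ht τ hτT
    calc z * u * z⁻¹ * u⁻¹ = z * (a * t * n i * b) * z⁻¹ * u⁻¹ := by rw [← e]
      _ = (z * a) * t * n i * (b * z⁻¹) * u⁻¹ := by group
      _ = (a * z) * t * n i * (z⁻¹ * b) * u⁻¹ := by rw [h2, h5]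
      _ = a * (z * t) * n i * z⁻¹ * b * u⁻¹ := by group
      _ = a * (t * z) * n i * z⁻¹ * b * u⁻¹ := by rw [h4]
      _ = a * t * τ * n i * b * u⁻¹ := by rw [hτ]; group
      _ = a * (t * τ) * n i * b * u⁻¹ := by group
      _ = a * (τ * t) * n i * b * u⁻¹ := by rw [h6]
      _ = a * τ * a⁻¹ * (a * t * n i * b) * u⁻¹ := by group
      _ = a * τ * a⁻¹ := by rw [← e, mul_inv_cancel_right]
  have h2 : z * u * z⁻¹ * u⁻¹ ∈ X (-sr i) := by
    refine mul_mem ?_ (inv_mem hu)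
    rw [← R.tor _ (isRoot_sr cs h i).neg z hz]
    exact conj_mem_cj.2 hu
  obtain ⟨k, hk⟩ := R.pgrp' (isRoot_sr cs h i).neg ⟨_, h2⟩
  have hk' : (a * τ * a⁻¹) ^ p ^ k = 1 := by
    rw [← h1]
    exact congrArg Subtype.val hk
  rw [conj_pow] at hk'
  have h3 : τ ^ p ^ k = 1 := by
    have := mul_inv_eq_one.1 hk'
    exact mul_eq_left.1 this
  have h4 : τ = 1 := by
    have h5 : (⟨τ, hτT⟩ : ↥T) ^ p ^ k = 1 := Subtype.ext h3
    have h6 : orderOf (⟨τ, hτT⟩ : ↥T) ∣ Nat.gcd (Nat.card T) (p ^ k) :=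
      Nat.dvd_gcd (orderOf_dvd_natCard _) (orderOf_dvd_of_pow_eq_one h5)
    rw [Nat.Coprime.pow_right k R.tcop, Nat.dvd_one, orderOf_eq_one_iff] at h6
    exact congrArg Subtype.val h6
  rw [h4, mul_one, mul_inv_cancel] at h1
  exact mul_inv_eq_iff_eq_mul.1 (mul_inv_eq_one.1 h1)

end Neg

namespace TwE

open CoxeterSystem Cfsg.Agent.ChevalleyStructure.CoxeterGeom Cfsg.Agent.Tits.Roots Cfsg.Agent.Tits.Core
  Cfsg.Agent.Tits.RootComb Cfsg.Agent.Nodes.Comb Cfsg.Agent.Nodes.Reps Cfsg.Agent.Nodes.BNOf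
  Cfsg.Agent.Nodes.RGDTwGen Cfsg.Agent.Nodes.RGDChev Cfsg.Agent.Nodes.RGDFold
  Cfsg.Agent.Nodes.RGDFoldSL Cfsg.Agent.Nodes.RGDTwE6 Cfsg.Agent.Nodes.RGDTwTab Cfsg.Agent.Nodes.RGDTwCoordE6
  Cfsg.Agent.Nodes.RGDTwCoord Cfsg.Agent.Nodes.RGDTwComE6 Cfsg.Agent.Nodes.RGDTwActE6
  Cfsg.Agent.Nodes.RGDLib Cfsg.Agent.Nodes.SubComb Cfsg.Agent.Nodes.Sub Cfsg.Agent.Nodes.Bruhat
open Cfsg.Lie Cfsg.Agent.ChevalleyStructure
  Cfsg.Agent.ChevalleyStructure.TwistedU Cfsg.Agent.ChevalleyStructure.TwistedFix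
open Cfsg.Agent.ChevalleyStructure.SL2Hom (up lo)
open Cfsg.Agent.KFacts.TwESix.Comb (bf rts mem_rts bf_rep rho rho_root bf_rho pairing_eq)
open Cfsg.Agent.Nodes.RGDTwNode.E6 (nodeOK eps_one rest)
open Cfsg.Agent.UGT.U2.FOne (RA)
open Cfsg.Agent.UGT.U2.FOne.TwESix
open Cfsg.Agent.GenExc.TwE
open Cfsg.Agent.H836.T3SL (SL Q8 mem_Q8)
open scoped commutatorElement MatrixGroups

/-! ### the combinatorics of `F₄` -/

section Comb

variable {W : Type*} [Group W] (cs : CoxeterSystem CoxeterMatrix.F₄ W)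

/-- the parities of the pairings determine a short root up to sign -/
theorem tab_par : ∀ y ∈ ([![0, 0, 0, 1], ![0, 0, 1, 0], ![0, 1, 1, 0], ![1, 1, 1, 0]] : List (Fin 4 → ℤ)), ∀ x ∈ rts,
    (∀ j, (pairing A j x % 2 = 0 ↔ pairing A j y % 2 = 0)) → x = y ∨ x = -y := by decide +kernel

theorem tab_no : ∀ x ∈ rts, ∃ j, pairing A j x % 2 ≠ 0 := by decide +kernel

theorem tab_mem : ∀ y ∈ ([![0, 0, 0, 1], ![0, 0, 1, 0], ![0, 1, 1, 0], ![1, 1, 1, 0]] : List (Fin 4 → ℤ)), y ∈ rts := by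
  decide +kernel

theorem tab_sum : ∀ y ∈ ([![0, 0, 1, 0], ![0, 1, 1, 0], ![1, 1, 1, 0]] : List (Fin 4 → ℤ)),
    (![0, 0, 0, 1] : Fin 4 → ℤ) + y ∈ rts ∧ (![0, 0, 0, 1] : Fin 4 → ℤ) - y ∉ rts ∧ y - ![0, 0, 0, 1] ∉ rts := by
  decide +kernel

theorem cases_y {w : W} (hw : Par cs isCartan w) {y : Fin 4 → ℤ}
    (hy : y ∈ ([![0, 0, 0, 1], ![0, 0, 1, 0], ![0, 1, 1, 0], ![1, 1, 1, 0]] : List (Fin 4 → ℤ))) :
    rep cs isCartan w y = y ∨ rep cs isCartan w y = -y := by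
  have h1 : IsRoot cs isCartan y := (mem_rts cs).2 (tab_mem y hy)
  exact tab_par y hy _ ((mem_rts cs).1 (h1.act w)) fun j => hw j y h1

theorem comb (w : W) (hw : Par cs isCartan w) : w = 1 ∨ rep cs isCartan w (sr 0) = -sr 0 := by
  have := Cfsg.Agent.KFacts.TwESix.Comb.finiteW cs
  have e3 : (sr 3 : Fin 4 → ℤ) = ![0, 0, 0, 1] := by decide +kernel
  have e2 : (sr 2 : Fin 4 → ℤ) = ![0, 0, 1, 0] := by decide +kernel
  have e1 : (![0, 1, 1, 0] : Fin 4 → ℤ) = sr 1 + sr 2 := by decide +kernel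
  have e0 : (![1, 1, 1, 0] : Fin 4 → ℤ) = sr 0 + (sr 1 + sr 2) := by decide +kernel
  have key : ∀ y ∈ ([![0, 0, 1, 0], ![0, 1, 1, 0], ![1, 1, 1, 0]] : List (Fin 4 → ℤ)),
      (rep cs isCartan w ![0, 0, 0, 1] = ![0, 0, 0, 1] → rep cs isCartan w y = y) ∧
      (rep cs isCartan w ![0, 0, 0, 1] = -![0, 0, 0, 1] → rep cs isCartan w y = -y) := by
    intro y hy
    obtain ⟨h1, h2, h3⟩ := tab_sum y hy
    have h4 := ((mem_rts cs).2 h1).act w
    rw [map_add] at h4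
    have h5 := cases_y cs hw (List.mem_cons_of_mem _ hy)
    constructor
    · intro h6
      rcases h5 with h5 | h5
      · exact h5
      · exfalso
        rw [h6, h5, ← sub_eq_add_neg] at h4
        exact h2 ((mem_rts cs).1 h4)
    · intro h6
      rcases h5 with h5 | h5
      · exfalso
        rw [h6, h5, neg_add_eq_sub] at h4
        exact h3 ((mem_rts cs).1 h4)
      · exact h5
  rcases cases_y cs hw (y := ![0, 0, 0, 1]) (by simp) with h3 | h3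
  · left
    have h2 := (key ![0, 0, 1, 0] (by simp)).1 h3
    have h1 := (key ![0, 1, 1, 0] (by simp)).1 h3
    have h0 := (key ![1, 1, 1, 0] (by simp)).1 h3
    rw [← e3] at h3
    rw [← e2] at h2
    rw [e0, ← e1, map_add, h1] at h0
    have h0' := add_right_cancel h0
    rw [e1, map_add, h2] at h1
    have h1' := add_right_cancel h1
    refine Chev.eq_one (cs := cs) (h := isCartan) fun i => ?_
    fin_cases i
    exacts [h0', h1', h2, h3]
  · right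
    have h1 := (key ![0, 1, 1, 0] (by simp)).2 h3
    have h0 := (key ![1, 1, 1, 0] (by simp)).2 h3
    rw [e0, ← e1, map_add, h1, neg_add] at h0
    exact add_right_cancel h0

end Comb

/-! ### the group -/

section Grp

variable {K : Type} [Field K] [Fintype K] {φ : K →+* K} (hK : Fintype.card K = 3 ^ 2) (hφ : ∀ x, φ x = x ^ 3)
  (hqq : ∀ t : K, (t ^ 3) ^ 3 = t) {W : Type*} [Group W] (cs : CoxeterSystem CoxeterMatrix.F₄ W)

include hK in
theorem charP9 : CharP K 3 := by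
  have : Fact (Nat.Prime 3) := ⟨Nat.prime_three⟩
  exact charP_of_card_eq_prime_pow (f := 2) hK

include hK in
theorem two_ne9 : (2 : K) ≠ 0 := OddHalf.LongSL.two_ne_of_odd (by rw [hK]; decide)

include hK hφ hqq in
theorem pow_T {t : ↥(twistedE6 K 3)} (ht : t ∈ T K 3) : t ^ 8 = 1 := by
  have : Fact (Nat.Prime 3) := ⟨Nat.prime_three⟩
  obtain ⟨hs, hna⟩ := S1070.result Nat.prime_three.isPrimePow hK
  let cs := CoxeterMatrix.F₄.toCoxeterSystem
  have h1 : ∀ z, IsRoot cs isCartan z → X φ 3 z ≤ Subgroup.centralizer ({t ^ 8} : Set ↥(twistedE6 K 3)) := by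
    intro z hz u hu
    obtain ⟨a, ha, rfl⟩ := (mem_X hφ hqq hz _).1 hu
    obtain ⟨χ, hχ0, hχ, hact⟩ := conj_T hφ hqq hz ht
    have h2 : ∀ m : ℕ, Ok chevE6 J O φ z (χ ^ m * a) ∧ t ^ m * x φ 3 z a * (t ^ m)⁻¹ = x φ 3 z (χ ^ m * a) := by
      intro m
      induction m with
      | zero => rw [pow_zero, one_mul, pow_zero, one_mul, inv_one, mul_one]; exact ⟨ha, rfl⟩
      | succ m ih =>
        have e : χ ^ (m + 1) * a = χ * (χ ^ m * a) := by rw [pow_succ']; ring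
        rw [e]
        refine ⟨Ok.mul hχ ih.1, ?_⟩
        rw [← hact _ ih.1, ← ih.2, pow_succ']
        group
    have h3 := (h2 8).2
    have h4 : χ ^ 8 = 1 := by
      have := FiniteField.pow_card_sub_one_eq_one χ hχ0
      rwa [hK] at this
    rw [h4, one_mul] at h3
    exact Subgroup.mem_centralizer_singleton_iff.2 (mul_inv_eq_iff_eq_mul.1 h3).symm
  have h2 : Subgroup.centralizer ({t ^ 8} : Set ↥(twistedE6 K 3)) = ⊤ := by
    rw [eq_top_iff, ← G1_eq_top cs hφ hqq]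
    exact iSup_le fun z => h1 z.1 z.2
  have h3 : t ^ 8 ∈ Subgroup.center ↥(twistedE6 K 3) := by
    rw [Subgroup.mem_center_iff]
    intro g
    have : g ∈ Subgroup.centralizer ({t ^ 8} : Set ↥(twistedE6 K 3)) := by rw [h2]; trivial
    exact Subgroup.mem_centralizer_singleton_iff.1 this
  rcases (inferInstance : (Subgroup.center ↥(twistedE6 K 3)).Normal).eq_bot_or_eq_top with h4 | h4
  · rw [h4, Subgroup.mem_bot] at h3
    exact h3
  · exfalso
    apply hna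
    constructor
    constructor
    intro a b
    have : b ∈ Subgroup.center ↥(twistedE6 K 3) := by rw [h4]; trivial
    exact Subgroup.mem_center_iff.1 this a

include hK hφ hqq in
theorem isPGroup_T : IsPGroup 2 ↥(T K 3) := fun x => ⟨3, Subtype.ext (pow_T hK hφ hqq x.2)⟩

include hK hφ in
theorem card_Fx : Nat.card (Fx φ ((rest 0).length + 1)) = 3 :=
  card_Fq hφ (by norm_num) hK

include hK in
/-- **A 2-central element is conjugate to an element of the torus.** -/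
theorem torus {z : ↥(twistedE6 K 3)} {P : Sylow 2 ↥(twistedE6 K 3)}
    (hz : (P : Subgroup ↥(twistedE6 K 3)) ≤ Subgroup.centralizer {z}) : ∃ g : ↥(twistedE6 K 3), g * z * g⁻¹ ∈ T K 3 := by
  classical
  have : Fact (Nat.Prime 3) := ⟨Nat.prime_three⟩
  have : CharP K 3 := charP9 hK
  obtain ⟨φ, hφ, hqq⟩ := TwE6Basic.exists_frob Nat.prime_three.isPrimePow hK
  let cs := CoxeterMatrix.F₄.toCoxeterSystem
  have : Finite CoxeterMatrix.F₄.Group := Cfsg.Agent.KFacts.TwESix.Comb.finiteW cs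
  have h2 : (2 : K) ≠ 0 := two_ne9 hK
  have R := rgd cs hφ hqq 3
  have : Fintype (Fx φ ((rest 0).length + 1)) := Fintype.ofFinite _
  obtain ⟨e⟩ : Nonempty (ZMod 3 ≃+* Fx φ ((rest 0).length + 1)) :=
    ⟨ZMod.ringEquivOfPrime _ Nat.prime_three (by rw [← Nat.card_eq_fintype_card]; exact card_Fx hK hφ)⟩
  have hinj : Function.Injective ((Cfsg.Agent.UGT.U2.FOne.TwESix.P hφ hqq 0).comp
      (Matrix.SpecialLinearGroup.map e.toRingHom)) :=
    (P_injective hφ hqq h2).comp (Chev.map_inj e.toRingHom)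
  have hsurj : Function.Surjective (Matrix.SpecialLinearGroup.map (n := Fin 2) e.toRingHom) := by
    intro g
    refine ⟨Matrix.SpecialLinearGroup.map (n := Fin 2) e.symm.toRingHom g, ?_⟩
    apply Subtype.ext
    ext i j
    show ((e (e.symm (g.1 i j)) : Fx φ ((rest 0).length + 1)) : K) = (g.1 i j : K)
    rw [e.apply_symm_apply]
  have hrange : ((Cfsg.Agent.UGT.U2.FOne.TwESix.P hφ hqq 0).comp
      (Matrix.SpecialLinearGroup.map e.toRingHom)).range = RA (X φ 3) (sr 0) := by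
    rw [← range_P hφ hqq, MonoidHom.range_comp, MonoidHom.range_eq_top.2 hsurj, ← MonoidHom.range_eq_map]
  have hcl : ∀ (j : Fin 4) (z : Fin 4 → ℤ), cL [j] z = pairing A j z := by
    intro j z
    rw [cL_cons]
    show _ + 0 = _
    rw [add_zero]
  refine mem_T R (GG_top φ hφ hqq) (isPGroup_T hK hφ hqq) (fun j => zL hφ hqq [j])
    (fun j => zL_mem hφ hqq [j]) ?_ ?_ (fun x hx => tab_no x ((mem_rts cs).1 hx)) (comb cs) hinj ?_ ?_ ?_ hz
  · intro j x hx hev u hu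
    exact zL_even hφ hqq [j] hx (by rw [hcl]; exact hev) hu
  · intro j x hx hodd u hu hc
    exact zL_odd hφ hqq h2 [j] hx (by rw [hcl]; exact hodd) hu hc
  · rw [MonoidHom.comp_apply, Chev.map_up]
    exact (mem_X_sr hφ hqq 0).2 ⟨_, rfl⟩
  · intro u hu
    obtain ⟨t, rfl⟩ := (mem_X_neg hφ hqq 0).1 hu
    refine ⟨e.symm t, ?_⟩
    rw [MonoidHom.comp_apply, Chev.map_lo]
    exact congrArg (fun s => Cfsg.Agent.UGT.U2.FOne.TwESix.P hφ hqq 0 (lo s)) (e.apply_symm_apply t).symm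
  · rw [hrange]
    intro t ht
    show t ∈ Subgroup.normalizer (((X φ 3 (sr 0)) ⊔ (X φ 3 (-sr 0)) : Subgroup ↥(twistedE6 K 3)) : Set _)
    rw [mem_normalizer_iff_cj, cj_sup, R.tor _ (isRoot_sr cs isCartan 0) t ht,
      R.tor _ (isRoot_sr cs isCartan 0).neg t ht]

theorem tab_short : (![0, 0, 0, 1] : Fin 4 → ℤ) ∈ rts ∧ (![0, 0, 1, 0] : Fin 4 → ℤ) ∈ rts ∧
    (![0, 0, 1, 1] : Fin 4 → ℤ) ∈ rts ∧ Qv ![0, 0, 0, 1] = 2 ∧ Qv ![0, 0, 1, 0] = 2 ∧ Qv ![0, 0, 1, 1] = 2 ∧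
    bf ![0, 0, 0, 1] ![0, 0, 0, 1] = 2 ∧ bf ![0, 0, 1, 0] ![0, 0, 1, 0] = 2 ∧ bf ![0, 0, 1, 1] ![0, 0, 1, 1] = 2 := by
  decide +kernel

theorem tab_add : (![0, 0, 1, 0] : Fin 4 → ℤ) + ![0, 0, 0, 1] = ![0, 0, 1, 1] := by decide +kernel

theorem tab_N : N (![0, 0, 1, 0] : Fin 4 → ℤ) ![0, 0, 0, 1] = 1 ∨ N (![0, 0, 1, 0] : Fin 4 → ℤ) ![0, 0, 0, 1] = -1 := by
  decide +kernel

include hφ hqq in
/-- one of three short root groups is centralised by an involution of the torus -/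
theorem exists_short {z : ↥(twistedE6 K 3)} (hz : z ∈ T K 3) (hz2 : z * z = 1) :
    ∃ s : Fin 4 → ℤ, s ∈ rts ∧ bf s s = 2 ∧ ∀ u ∈ X φ 3 s, z * u = u * z := by
  obtain ⟨r3, r2, r5, q3, q2, q5, b3, b2, b5⟩ := tab_short
  let cs := CoxeterMatrix.F₄.toCoxeterSystem
  have key : ∀ {y : Fin 4 → ℤ}, y ∈ rts → ∃ χ : K, (χ = 1 ∨ χ = -1) ∧ Ok chevE6 J O φ y χ ∧
      ∀ a, Ok chevE6 J O φ y a → z * x φ 3 y a * z⁻¹ = x φ 3 y (χ * a) := by
    intro y hy
    have hy' : IsRoot cs isCartan y := (mem_rts cs).2 hy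
    obtain ⟨χ, hχ0, hχ, hact⟩ := conj_T hφ hqq hy' hz
    refine ⟨χ, ?_, hχ, hact⟩
    have h1 := hact 1 (ok_one y)
    have h2 := hact (χ * 1) (Ok.mul hχ (ok_one y))
    rw [← h1] at h2
    have h3 : z * (z * x φ 3 y 1 * z⁻¹) * z⁻¹ = x φ 3 y 1 := by
      calc z * (z * x φ 3 y 1 * z⁻¹) * z⁻¹ = (z * z) * x φ 3 y 1 * (z * z)⁻¹ := by group
        _ = x φ 3 y 1 := by rw [hz2]; group
    rw [h3, mul_one] at h2
    have h4 := x_inj hφ hqq hy' (ok_one y) (Ok.mul hχ hχ) h2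
    exact mul_self_eq_one_iff.1 h4.symm
  have fin : ∀ {y : Fin 4 → ℤ}, y ∈ rts → (∀ a, Ok chevE6 J O φ y a → z * x φ 3 y a * z⁻¹ = x φ 3 y (1 * a)) →
      ∀ u ∈ X φ 3 y, z * u = u * z := by
    intro y hy hact u hu
    obtain ⟨a, ha, rfl⟩ := (mem_X hφ hqq ((mem_rts cs).2 hy) _).1 hu
    have h1 := hact a ha
    rw [one_mul] at h1
    exact mul_inv_eq_iff_eq_mul.1 h1
  obtain ⟨c3, h3, -, a3⟩ := key r3
  obtain ⟨c2, h2, -, a2⟩ := key r2
  obtain ⟨c5, h5, o5, a5⟩ := key r5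
  rcases h3 with rfl | rfl
  · exact ⟨_, r3, b3, fin r3 a3⟩
  rcases h2 with rfl | rfl
  · exact ⟨_, r2, b2, fin r2 a2⟩
  refine ⟨_, r5, b5, fin r5 ?_⟩
  have hc5 : c5 = 1 := by
    have e := comm_short hφ hqq (cs := cs) ((mem_rts cs).2 r2) ((mem_rts cs).2 r3) (by rw [tab_add]; exact (mem_rts cs).2 r5)
      q2 q3 (by rw [tab_add]; exact q5)
    have e1 := e 1 1
    have e2 := e (-1 * 1) (-1 * 1)
    have ok2 : Ok chevE6 J O φ (![0, 0, 1, 0] : Fin 4 → ℤ) (1 : K) := ok_one _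
    have ok3 : Ok chevE6 J O φ (![0, 0, 0, 1] : Fin 4 → ℤ) (1 : K) := ok_one _
    rw [← a2 1 ok2, ← a3 1 ok3] at e2
    have h6 : (-1 * 1 : K) * (-1 * 1) = 1 * 1 := by ring
    rw [h6, ← e1] at e2
    have h7 : ⁅z * x φ 3 ![0, 0, 1, 0] 1 * z⁻¹, z * x φ 3 ![0, 0, 0, 1] 1 * z⁻¹⁆ =
        z * ⁅x φ 3 ![0, 0, 1, 0] (1 : K), x φ 3 ![0, 0, 0, 1] 1⁆ * z⁻¹ := by
      rw [commutatorElement_def, commutatorElement_def]
      group
    rw [h7, e1, tab_add, mul_one, map_one, mul_one] at e2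
    have hN : ((N (![0, 0, 1, 0] : Fin 4 → ℤ) ![0, 0, 0, 1] : ℤ) : K) ≠ 0 ∧
        Ok chevE6 J O φ (![0, 0, 1, 1] : Fin 4 → ℤ) ((N (![0, 0, 1, 0] : Fin 4 → ℤ) ![0, 0, 0, 1] : ℤ) : K) := by
      rcases tab_N with h | h
      · rw [h, Int.cast_one]
        exact ⟨one_ne_zero, ok_one _⟩
      · rw [h, Int.cast_neg, Int.cast_one]
        refine ⟨neg_ne_zero.2 one_ne_zero, ?_⟩
        have := ok_neg_one_zpow (K := K) (φ := φ) (![0, 0, 1, 1] : Fin 4 → ℤ) 1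
        rwa [zpow_one] at this
    rw [a5 _ hN.2] at e2
    have h8 := x_inj hφ hqq ((mem_rts cs).2 r5) (Ok.mul o5 hN.2) hN.2 e2
    exact mul_right_cancel₀ hN.1 (h8.trans (one_mul _).symm)
  rw [← hc5]
  exact a5

include hK in
/-- **No element of the torus.** -/
theorem no_T {z : ↥(twistedE6 K 3)} (hz : z ∈ T K 3) (hz2 : z * z = 1)
    (hRS : H236.RS 3 ↥(Subgroup.centralizer ({z} : Set ↥(twistedE6 K 3)))) : False := by
  classical
  have : Fact (Nat.Prime 3) := ⟨Nat.prime_three⟩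
  have : CharP K 3 := charP9 hK
  obtain ⟨φ, hφ, hqq⟩ := TwE6Basic.exists_frob Nat.prime_three.isPrimePow hK
  let cs := CoxeterMatrix.F₄.toCoxeterSystem
  have : Finite CoxeterMatrix.F₄.Group := Cfsg.Agent.KFacts.TwESix.Comb.finiteW cs
  have R := rgd cs hφ hqq 3
  obtain ⟨s, hs, hbf, hc⟩ := exists_short hφ hqq hz hz2
  obtain ⟨w, hw⟩ := Cfsg.Agent.KFacts.TwESix.Comb.exists_rep_short cs ((mem_rts cs).2 hs) hbf
  obtain ⟨k, hk⟩ := exists_rp cs R.nsys w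
  obtain ⟨z₁, hz₁⟩ : ∃ z₁, z₁ = k⁻¹ * z * k⁻¹⁻¹ := ⟨_, rfl⟩
  have hRS₁ : H236.RS 3 ↥(Subgroup.centralizer ({z₁} : Set ↥(twistedE6 K 3))) := by
    rw [hz₁]
    exact Chev.rs_conj hRS
  have hT₁ : z₁ ∈ T K 3 := by
    rw [hz₁]
    exact (Subgroup.mem_normalizer_iff.1 hk.inv.mem_normalizer z).1 hz
  have hpos : ∀ u ∈ X φ 3 (sr 3), z₁ * u = u * z₁ := by
    intro u hu
    have h1 := hc _ (by rw [← hw]; exact R.conj_mem hk (isRoot_sr cs isCartan 3) hu)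
    calc z₁ * u = k⁻¹ * (z * (k * u * k⁻¹)) * k := by rw [hz₁]; group
      _ = k⁻¹ * (k * u * k⁻¹ * z) * k := by rw [h1]
      _ = u * z₁ := by rw [hz₁]; group
  have hneg := cent_neg R (fun a ha b hb => comm_T ha hb) hT₁ (i := 3) hpos
  have h3 : ∀ (y : Fin 4 → ℤ), IsRoot cs isCartan y → ∀ u ∈ X φ 3 y, u ^ 3 = 1 := by
    intro y hy u hu
    obtain ⟨a, ha, rfl⟩ := (mem_X hφ hqq hy _).1 hu
    rw [pow_succ, pow_two, ← x_add hφ hqq hy ha ha, ← x_add hφ hqq hy (Ok.add ha ha) ha]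
    have h4 : a + a + a = 0 := by
      have h5 : ((3 : ℕ) : K) = 0 := CharP.cast_eq_zero K 3
      push_cast at h5
      linear_combination a * h5
    rw [h4, x_zero hφ hqq hy]
  have hr3 := isRoot_sr cs isCartan (3 : Fin 4)
  have hJ : RA (X φ 3) (sr 3) = Subgroup.closure ((X φ 3 (sr 3) : Set ↥(twistedE6 K 3)) ∪ X φ 3 (-sr 3)) := by
    rw [Subgroup.closure_union, Subgroup.closure_eq, Subgroup.closure_eq]
    rfl
  have hbot := kill (J := RA (X φ 3) (sr 3)) hRS₁ (sup_le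
      (fun u hu => Subgroup.mem_centralizer_singleton_iff.2 (hpos u hu).symm)
      (fun u hu => Subgroup.mem_centralizer_singleton_iff.2 (hneg u hu).symm)) hJ (by
      rintro u (hu | hu)
      · exact h3 _ hr3 u hu
      · exact h3 _ hr3.neg u hu) (by
      have : Fintype (Fx φ ((rest 3).length + 1)) := Fintype.ofFinite _
      have hcard : Fintype.card (Fx φ ((rest 3).length + 1)) = 9 := by
        rw [← Nat.card_eq_fintype_card]
        have h4 : ∀ a : K, a ∈ Fx φ ((rest 3).length + 1) := fun a => by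
          rw [mem_Fx]
          exact phi_phi hφ hqq a
        rw [Nat.card_congr (Equiv.subtypeUnivEquiv h4), Nat.card_eq_fintype_card, hK]
        norm_num
      have hq := Cit.LongAbs.quasisimple_SL2 (F := Fx φ ((rest 3).length + 1)) (by rw [hcard]; decide) (by rw [hcard]; norm_num)
      rw [← range_P hφ hqq, MonoidHom.range_eq_map, ← Subgroup.map_commutator]
      have h5 : commutator SL(2, Fx φ ((rest 3).length + 1)) = ⊤ := hq.1.commutator_eq_top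
      rw [commutator_def] at h5
      rw [h5])
  refine X_ne_bot R hr3 (eq_bot_iff.2 ?_)
  rw [← hbot]
  exact le_sup_left

end Grp

/-- **`²E₆(3)`** -/
theorem notCP_te63 {K : Type} [Field K] [Fintype K] (hK : Fintype.card K = 3 ^ 2) :
    H226.Tall.NotCP ↥(twistedE6 K 3) := by
  rintro z ⟨hz, P, hP⟩ hcp
  have : Fact (Nat.Prime 3) := ⟨Nat.prime_three⟩
  have : Fact (Nat.Prime 2) := ⟨Nat.prime_two⟩
  have : CharP K 3 := charP9 hK
  obtain ⟨hs, -⟩ := S1070.result Nat.prime_three.isPrimePow hK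
  obtain ⟨φ, hφ, hqq⟩ := TwE6Basic.exists_frob Nat.prime_three.isPrimePow hK
  have : Finite CoxeterMatrix.F₄.Group := Cfsg.Agent.KFacts.TwESix.Comb.finiteW CoxeterMatrix.F₄.toCoxeterSystem
  obtain ⟨g, hg⟩ := torus hK hP
  have hsplit : FixBN.HasSplit 3 ↥(twistedE6 K 3) :=
    FixBN.SplitRGD.hasSplit_of_rgd_top Nat.prime_three (rgd CoxeterMatrix.F₄.toCoxeterSystem hφ hqq 3)
      (G1_eq_top _ hφ hqq)
  have hz2 : z ^ 2 = 1 := by rw [← hz]; exact pow_orderOf_eq_one z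
  have h1 := H236.rs_centralizer (p := 2) (r := 3) (by norm_num) hsplit z hz2 hcp
  refine no_T hK hg ?_ (Chev.rs_conj h1)
  calc g * z * g⁻¹ * (g * z * g⁻¹) = g * (z ^ 2) * g⁻¹ := by rw [pow_two]; group
    _ = 1 := by rw [hz2, mul_one, mul_inv_cancel]

end TwE

end Cfsg.Agent.H515.Tall
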